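import Cfsg.Agent.H94.IF.Mid
import Cfsg.Agent.H94.IF.CZero
import Cfsg.Agent.H276.IF.RowFin
import Cfsg.Agent.H886.IF.EightQ
import Cfsg.Agent.H893.IF.EightP2
import Cfsg.Agent.AutOrth.Main

/-!
# S5719: the cells `minus_mid` and (modulo the abstract theorem of dimension 8, plus type) `plus_mid` (helper94)
-/

set_option autoImplicit false
set_option linter.unusedSectionVars false
set_option linter.unusedVariables false

namespace Cfsg.Agent.H94.IF

open QuadraticMap Cfsg Cfsg.Agent.LieClassical Cfsg.Agent.LieClassical.OrthCore Cfsg.Agent.LieClassical.OrthTrans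
  Cfsg.Agent.LieClassical.OrthFinite Cfsg.Agent.LieClassical.OrthForms Cfsg.Agent.H209.Fxy
  Cfsg.Agent.H75.OrthIdx Cfsg.Agent.H112.Row2.OrthExt Cfsg.Agent.AutOrth.Gen Cfsg.Agent.H989.Gs.Gen
open Module (finrank)
open Cfsg.Agent.H325.IF (Vm Vp)

theorem kerScalar_omHom {ι : Type} [Fintype ι] [DecidableEq ι] {F : Type} [Field F] {Q : QuadraticForm F (ι → F)}
    (hG : Good Q) : KerScalar (omHom hG) := fun g hg => center_scalar hG (by rw [← omHom_ker hG]; exact hg)

/-- CLAIM 0 for the models -/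
theorem claimZ {ι : Type} [Fintype ι] [DecidableEq ι] {F : Type} [Field F] [Fintype F]
    (ho : Odd (Fintype.card F)) (Q : QuadraticForm F (ι → F)) (h8 : 8 ≤ Fintype.card ι)
    (hs : IsSimpleGroup (POmega F ⇑Q)) : ClaimZ Q := by
  intro hG A Γ hIF t ht htt hr
  have hfin : Finite (POmega F ⇑Q) := Quotient.finite _
  have hfr : finrank F (ι → F) = Fintype.card ι := Module.finrank_pi F
  exact Cfsg.Agent.H94.CZ.claim0 (Cfsg.Agent.H254.IF.two_ne_zero_of_odd ho) hG.nondeg (by rw [hfr]; exact h8)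
    (Cfsg.Agent.H556.IF.hna_of_IF hIF) hIF (omHom hG) (omHom_surjective hG) (kerScalar_omHom hG) ht htt hr

/-- the cell of dimension 8, minus type -/
theorem minus_four (F : Type) [Field F] [Fintype F] (a b : F) (ho : Odd (Fintype.card F))
    (hz : ∀ z₁ z₂ : F, z₁ ^ 2 + a * z₁ * z₂ + b * z₂ ^ 2 = 0 → z₁ = 0 ∧ z₂ = 0)
    (hs : IsSimpleGroup (POmega F (quadFormMinus 3 F a b))) : KillE (POmega F (quadFormMinus 3 F a b)) := by
  classical
  have h2 : (2 : F) ≠ 0 := Cfsg.Agent.H254.IF.two_ne_zero_of_odd ho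
  have hG : Good (minusForm 3 F a b) :=
    Cfsg.Agent.ClassicalGeometry.OrthSemiForms.good_minus (F := F) (m := 3) (by omega) a b hz
  have hN : finrank F ((Fin 3 ⊕ Fin 3) ⊕ Fin 2 → F) = 8 := by
    rw [Module.finrank_fintype_fun_eq_card]
    rfl
  have hm : ∀ g : ↥(E (minusForm 3 F a b)), ¬ ∀ v, ap g v = -v :=
    Cfsg.Agent.H893.IFE.neg_notMem h2 hG (Cfsg.Agent.H160.QFinal.dc_minusForm h2 hz)
  refine Cfsg.Agent.H893.IFE.minus_four_of F a b ho hz hs ?_
  intro A Γ hIF t ht htt hr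
  have hfin := Cfsg.Agent.H276.IF.finite_E (minusForm 3 F a b)
  have hsE : IsSimpleGroup ↥(E (minusForm 3 F a b)) := by
    have hs' := hs
    rw [← coe_minusForm 3 F a b] at hs'
    obtain ⟨e⟩ := Cfsg.Agent.H893.IFE.exists_equiv hG hm
    exact (MulEquiv.isSimpleGroup_congr e).1 hs'
  refine Cfsg.Agent.H94.CZ.claim0 h2 hG.nondeg (by rw [hN]) (Cfsg.Agent.H556.IF.hna_of_IF hIF) hIF
    (MonoidHom.id _) Function.surjective_id ?_ (t := t) (by simpa using ht) htt hr
  intro g hg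
  refine ⟨1, fun v => ?_⟩
  have hg' : g = 1 := hg
  rw [hg', one_smul]
  rfl

/-- **the cells `minus_mid`** -/
theorem minus_mid (F : Type) [Field F] [Fintype F] (m : ℕ) (a b : F) (ho : Odd (Fintype.card F)) (h4m : 4 ≤ m)
    (hm7 : m ≤ 7) (hz : ∀ z₁ z₂ : F, z₁ ^ 2 + a * z₁ * z₂ + b * z₂ ^ 2 = 0 → z₁ = 0 ∧ z₂ = 0)
    (hs : IsSimpleGroup (POmega F (quadFormMinus (m - 1) F a b))) :
    KillE (POmega F (quadFormMinus (m - 1) F a b)) := by
  rcases Nat.lt_or_ge m 6 with h | h
  · have h45 : m = 4 ∨ m = 5 := by omega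
    rcases h45 with rfl | rfl
    · exact minus_four F a b ho hz hs
    · change IsSimpleGroup (POmega F (quadFormMinus 4 F a b)) at hs
      change KillE (POmega F (quadFormMinus 4 F a b))
      rw [← coe_minusForm] at hs ⊢
      exact ten_of ho _ (nondeg_minusForm 4 F a b hz) (by simp) hs (claimZ ho _ (by simp) hs)
  · exact Cfsg.Agent.H276.IF.minus_kill F m a b ho h hz hs

/-- the cell of dimension 8, plus type, from the abstract theorem -/
theorem plus_four_of (F : Type) [Field F] [Fintype F] (ho : Odd (Fintype.card F))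
    (h709 : ∀ (T : Type) [Group T] [Finite T] [IsSimpleGroup T], Cfsg.Agent.H893.IFE.EightPlus T F)
    (hs : IsSimpleGroup (POmega F (quadFormPlus 4 F))) : KillE (POmega F (quadFormPlus 4 F)) := by
  have h2 : (2 : F) ≠ 0 := Cfsg.Agent.H254.IF.two_ne_zero_of_odd ho
  have hG : Good (QuadForms.plusForm (F := F) 4) := Cfsg.Agent.AutOrth.Main.good_plus (by omega)
  have hN : finrank F (Fin 4 ⊕ Fin 4 → F) = 8 := by
    rw [Module.finrank_fintype_fun_eq_card]
    rfl
  have hs' := hs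
  rw [← QuadForms.coe_plusForm 4] at hs'
  have e := Cfsg.Agent.ClassicalGeometry.OrthSemiForms.pomegaEquiv hG
  have hfin : Finite (POmega F ⇑(QuadForms.plusForm (F := F) 4)) := inferInstance
  have hfin2 : Finite (Cfsg.Agent.ClassicalGeometry.OrthAut1.P (QuadForms.plusForm (F := F) 4)) :=
    Finite.of_equiv _ e.toEquiv
  have hs2 : IsSimpleGroup (Cfsg.Agent.ClassicalGeometry.OrthAut1.P (QuadForms.plusForm (F := F) 4)) :=
    (MulEquiv.isSimpleGroup_congr e).1 hs'
  have hk : KerScalar (QuotientGroup.mk' (Subgroup.center ↥(E (QuadForms.plusForm (F := F) 4)))) := by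
    intro g hg
    rw [QuotientGroup.mk'_apply, QuotientGroup.eq_one_iff] at hg
    exact Cfsg.Agent.ClassicalGeometry.OrthAut1.center_scalar hG hg
  refine Cfsg.Agent.H893.IFE.plus_four_of F ho hs ?_ (h709 _) ?_
  · intro A Γ hIF t htt hr htA
    exact Cfsg.Agent.H94.CZ.claim0 h2 hG.nondeg (by rw [hN]) (Cfsg.Agent.H556.IF.hna_of_IF hIF) hIF
      (QuotientGroup.mk' _) (QuotientGroup.mk'_surjective _) hk (t := t) htA htt hr
  · intro z hz
    have hT : Cfsg.Agent.H989.Fx.Ty (QuadForms.plusForm (F := F) 4) 8 1 := by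
      rw [← Cfsg.Agent.H893.IFE.plusForm_eq']
      exact Cfsg.Agent.H989.Fx.ty_plusForm 4
    exact Cfsg.Agent.H886.IF8.exists_model8 _ h2 hG hT (Cfsg.Agent.H893.IFE.mk_eq_one_iff hG) z hz

/-- the cells `plus_mid`, from the abstract theorem of dimension 8 -/
theorem plus_mid_of_eight
    (h709 : ∀ (F T : Type) [Field F] [Fintype F] [Group T] [Finite T] [IsSimpleGroup T], Odd (Fintype.card F) →
      Cfsg.Agent.H893.IFE.EightPlus T F)
    (F : Type) [Field F] [Fintype F] (m : ℕ) (ho : Odd (Fintype.card F)) (h4m : 4 ≤ m) (hm7 : m ≤ 7)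
    (hs : IsSimpleGroup (POmega F (quadFormPlus m F))) : KillE (POmega F (quadFormPlus m F)) := by
  rcases Nat.lt_or_ge m 6 with h | h
  · have h45 : m = 4 ∨ m = 5 := by omega
    rcases h45 with rfl | rfl
    · exact plus_four_of F ho (fun T _ _ _ => h709 F T ho) hs
    · rw [← coe_plusForm] at hs ⊢
      exact ten_of ho _ (nondeg_plusForm 5 F) (by simp) hs (claimZ ho _ (by simp) hs)
  · exact Cfsg.Agent.H276.IF.plus_kill F m ho h hs

end Cfsg.Agent.H94.IF
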