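import Cfsg.Agent.H94.IF.MidF
import Cfsg.Agent.H709.IF.EightPlus

/-!
# S5719: the cells `plus_mid` (helper94)
-/

set_option autoImplicit false

namespace Cfsg.Agent.H94.IF

open Cfsg Cfsg.Agent.H209.Fxy

/-- **the cells `plus_mid`** -/
theorem plus_mid (F : Type) [Field F] [Fintype F] (m : ℕ) (ho : Odd (Fintype.card F)) (h4m : 4 ≤ m) (hm7 : m ≤ 7)
    (hs : IsSimpleGroup (POmega F (quadFormPlus m F))) : KillE (POmega F (quadFormPlus m F)) :=
  plus_mid_of_eight (fun F T _ _ _ _ _ hodd => fun h hna f hcomm z hz hz2 hneg hsup hcl hc hN =>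
    Cfsg.Agent.H709.IF.eight_plus h hna hodd f hcomm hz hz2 hneg hsup hcl hc hN) F m ho h4m hm7 hs

end Cfsg.Agent.H94.IF
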