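import Cfsg.Agent.H94.IF.KOne

/-!
# (K1) for S5719, second part: `kOne`
-/

set_option autoImplicit false
set_option linter.unusedSectionVars false

namespace Cfsg.Agent.H94.IF

open Matrix OnePoint
open scoped commutatorElement
open Cfsg.Agent.ClassicalGeometry.SL2Line Cfsg.Agent.ClassicalGeometry.SL2Borel
open Cfsg.Agent.ClassicalGeometry.MinIndexPSL2

/-- a nontrivial subgroup of odd order normalised by `R` contains a nontrivial abelian subgroup of
odd prime exponent normalised by `R` -/
theorem exists_elem {G : Type*} [Group G] [Finite G] {R N : Subgroup G}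
    (hn : ∀ g ∈ R, ∀ x ∈ N, g * x * g⁻¹ ∈ N) (hne : N ≠ ⊥) (hodd : Odd (Nat.card N)) :
    ∃ (r : ℕ) (M : Subgroup G), r.Prime ∧ Odd r ∧ M ≤ N ∧ M ≠ ⊥ ∧ (∀ x ∈ M, x ^ r = 1) ∧
      (∀ x ∈ M, ∀ y ∈ M, x * y = y * x) ∧ ∀ g ∈ R, ∀ x ∈ M, g * x * g⁻¹ ∈ M := by
  classical
  have hs : Group.IsSolvable N := Cfsg.Agent.S0205.result hodd
  obtain ⟨n, hn0⟩ := hs.solvable
  have hex : ∃ n, derivedSeries N n = ⊥ := ⟨n, hn0⟩
  have hk0 : Nat.find hex ≠ 0 := by
    intro h0
    have h1 := Nat.find_spec hex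
    rw [h0, derivedSeries_zero] at h1
    apply hne
    rw [eq_bot_iff]
    intro x hx
    have h2 : (⟨x, hx⟩ : N) ∈ (⊤ : Subgroup N) := Subgroup.mem_top _
    rw [h1, Subgroup.mem_bot] at h2
    exact congrArg Subtype.val h2
  obtain ⟨k, hk⟩ := Nat.exists_eq_succ_of_ne_zero hk0
  have hD1 : derivedSeries N (k + 1) = ⊥ := by
    have := Nat.find_spec hex
    rwa [hk] at this
  have hD0 : derivedSeries N k ≠ ⊥ := Nat.find_min hex (by omega)
  obtain ⟨D, hD⟩ : ∃ D : Subgroup N, D = derivedSeries N k := ⟨_, rfl⟩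
  have hchar : D.Characteristic := by rw [hD]; exact derivedSeries_characteristic N k
  rw [← hD] at hD0
  have hcomm : ∀ x ∈ D, ∀ y ∈ D, x * y = y * x := by
    intro x hx y hy
    have h1 : ⁅x, y⁆ ∈ derivedSeries N (k + 1) := by
      rw [derivedSeries_succ, ← hD]
      exact Subgroup.commutator_mem_commutator hx hy
    rw [hD1, Subgroup.mem_bot, commutatorElement_eq_one_iff_mul_comm] at h1
    exact h1
  have hcard : Nat.card D ≠ 1 := by
    intro h1
    exact hD0 (Subgroup.card_eq_one.1 h1)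
  obtain ⟨r, hr, hrD⟩ := Nat.exists_prime_and_dvd hcard
  have hrodd : Odd r := hodd.of_dvd_nat (hrD.trans (Subgroup.card_subgroup_dvd_card D))
  have : Fact r.Prime := ⟨hr⟩
  let M' : Subgroup N :=
    { carrier := {x | x ∈ D ∧ x ^ r = 1}
      one_mem' := ⟨D.one_mem, one_pow r⟩
      mul_mem' := by
        rintro x y ⟨hx, hx'⟩ ⟨hy, hy'⟩
        refine ⟨D.mul_mem hx hy, ?_⟩
        rw [(show Commute x y from hcomm x hx y hy).mul_pow, hx', hy', one_mul]
      inv_mem' := by
        rintro x ⟨hx, hx'⟩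
        exact ⟨D.inv_mem hx, by rw [inv_pow, hx', inv_one]⟩ }
  refine ⟨r, M'.map N.subtype, hr, hrodd, ?_, ?_, ?_, ?_, ?_⟩
  · rintro _ ⟨x, -, rfl⟩
    exact x.2
  · intro h1
    obtain ⟨y, hy⟩ := exists_prime_orderOf_dvd_card' (G := D) r hrD
    have h2 : (y : N) ∈ M' := by
      refine ⟨y.2, ?_⟩
      have h3 : y ^ r = 1 := by rw [← hy, pow_orderOf_eq_one]
      exact congrArg Subtype.val h3
    have h3 : ((y : N) : G) ∈ M'.map N.subtype := ⟨y, h2, rfl⟩
    rw [h1, Subgroup.mem_bot] at h3
    have h4 : y = 1 := Subtype.ext (Subtype.ext h3)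
    rw [h4, orderOf_one] at hy
    exact hr.one_lt.ne hy
  · rintro _ ⟨x, hx, rfl⟩
    exact congrArg Subtype.val hx.2
  · rintro _ ⟨x, hx, rfl⟩ _ ⟨y, hy, rfl⟩
    exact congrArg Subtype.val (hcomm x hx.1 y hy.1)
  · rintro g hg _ ⟨x, hx, rfl⟩
    have hg' : g⁻¹ ∈ R := R.inv_mem hg
    let φ : N ≃* N :=
      { toFun := fun x => ⟨g * x * g⁻¹, hn g hg x x.2⟩
        invFun := fun x => ⟨g⁻¹ * x * g⁻¹⁻¹, hn g⁻¹ hg' x x.2⟩
        left_inv := fun x => Subtype.ext (by show g⁻¹ * (g * x * g⁻¹) * g⁻¹⁻¹ = x; group)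
        right_inv := fun x => Subtype.ext (by show g * (g⁻¹ * x * g⁻¹⁻¹) * g⁻¹ = x; group)
        map_mul' := fun x y => Subtype.ext (by show g * (x * y) * g⁻¹ = (g * x * g⁻¹) * (g * y * g⁻¹); group) }
    refine ⟨φ x, ⟨?_, ?_⟩, rfl⟩
    · have h1 : D.map φ.toMonoidHom = D := Subgroup.characteristic_iff_map_eq.1 hchar φ
      rw [← h1]
      exact ⟨x, hx.1, rfl⟩
    · rw [← map_pow, hx.2, map_one]

section PSL

variable {F : Type*} [Field F] [DecidableEq F] [Finite F]

local notation "SS" => SpecialLinearGroup (Fin 2) F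
local notation "PP" => Matrix.ProjectiveSpecialLinearGroup (Fin 2) F

attribute [local instance] slLineAction

theorem mem_center_two {z : SS} (hz : z ∈ Subgroup.center SS) : z = 1 ∨ z = -1 := by
  rw [Matrix.SpecialLinearGroup.mem_center_iff] at hz
  obtain ⟨c, hc, hz⟩ := hz
  have hc' : (c - 1) * (c + 1) = 0 := by
    have : c ^ 2 = 1 := by simpa using hc
    linear_combination this
  rcases mul_eq_zero.1 hc' with h | h
  · left
    have h1 : c = 1 := sub_eq_zero.1 h
    apply Subtype.ext
    rw [← hz, h1]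
    simp
  · right
    have h1 : c = -1 := eq_neg_of_add_eq_zero_left h
    rw [h1] at hz
    have e : ∀ i j, z i j = if i = j then -1 else 0 := by
      intro i j
      have h2 := congrFun (congrFun hz i) j
      rw [Matrix.scalar_apply, Matrix.diagonal_apply] at h2
      exact h2.symm
    apply sl_ext <;> rw [sl_neg_apply, e, sl_one_apply] <;> simp

theorem neg_one_mem_center : (-1 : SS) ∈ Subgroup.center SS := by
  rw [Subgroup.mem_center_iff]
  intro g
  rw [mul_neg, neg_mul, mul_one, one_mul]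

theorem pow_of_trace_two {a : SS} (ht : a 0 0 + a 1 1 = 2) (n : ℕ) :
    (a ^ n) 0 0 = 1 + n * (a 0 0 - 1) ∧ (a ^ n) 0 1 = n * a 0 1 ∧ (a ^ n) 1 0 = n * a 1 0 ∧
      (a ^ n) 1 1 = 1 + n * (a 1 1 - 1) := by
  have hd := det_eq a
  have e1 : a 1 1 = 2 - a 0 0 := by linear_combination ht
  induction n with
  | zero => simp [sl_one_apply]
  | succ n ih =>
    obtain ⟨i1, i2, i3, i4⟩ := ih
    rw [e1] at hd i4
    rw [pow_succ]
    simp only [sl_mul_apply, i1, i2, i3, i4, e1]
    push_cast
    refine ⟨?_, ?_, ?_, ?_⟩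
    · linear_combination -n * hd
    · ring
    · ring
    · linear_combination -n * hd

theorem pow_char_of_trace_two {p : ℕ} [CharP F p] {a : SS} (ht : a 0 0 + a 1 1 = 2) : a ^ p = 1 := by
  obtain ⟨i1, i2, i3, i4⟩ := pow_of_trace_two ht p
  have h0 : (p : F) = 0 := CharP.cast_eq_zero F p
  apply sl_ext <;> simp [sl_one_apply, i1, i2, i3, i4, h0]

/-- the two alternatives for an element of odd prime order and a group `R` moving it inside its centralizer -/
theorem kOne_sl {p : ℕ} [Fact p.Prime] [CharP F p] (hF : (2 : F) ≠ 0) {r : ℕ} (hr : r.Prime) (hro : Odd r) {a : SS}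
    (ha1 : a ≠ 1) (har : a ^ r = 1) {R : Subgroup SS} (h : ∀ g ∈ R, Commute (g * a * g⁻¹) a) :
    Group.IsSolvable R ∧ Nat.card F + 1 ≤ R.index := by
  by_cases hrp : r = p
  · rw [hrp] at har
    obtain ⟨x, hx⟩ := borel_case (p := p) ha1 har h
    refine ⟨solvable_of_le_stab hx, ?_⟩
    have h1 : (MulAction.stabilizer SS x).index = Nat.card F + 1 := by
      have := pretransitive (F := F)
      rw [MulAction.index_stabilizer_of_transitive, card_line]
    rw [← h1]
    exact Nat.le_of_dvd (Nat.pos_of_ne_zero Subgroup.index_ne_zero_of_finite) (Subgroup.index_dvd_of_le hx)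
  · have hfr : Fact r.Prime := ⟨hr⟩
    have hord : orderOf a = r := orderOf_eq_prime har ha1
    have hnot : ∀ n : ℕ, a ^ n = 1 → r ∣ n := fun n hn => hord ▸ orderOf_dvd_of_pow_eq_one hn
    have hpp : p.Prime := Fact.out
    have ht : (a 0 0 + a 1 1) ^ 2 ≠ 4 := by
      intro h4
      have h5 : (a 0 0 + a 1 1 - 2) * (a 0 0 + a 1 1 + 2) = 0 := by linear_combination h4
      rcases mul_eq_zero.1 h5 with h6 | h6
      · have h7 := pow_char_of_trace_two (p := p) (a := a) (by linear_combination h6)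
        exact hrp ((Nat.prime_dvd_prime_iff_eq hr hpp).1 (hnot p h7))
      · have h7 := pow_char_of_trace_two (p := p) (a := -a) (by
          rw [sl_neg_apply, sl_neg_apply]
          linear_combination -h6)
        have h8 : a ^ (p * 2) = 1 := by
          have e1 : (-a) ^ (2 * p) = a ^ (2 * p) := (even_two_mul p).neg_pow a
          rw [mul_comm p 2, ← e1, mul_comm 2 p, pow_mul, h7, one_pow]
        have h9 := hnot _ h8
        rcases (hr.dvd_mul).1 h9 with h10 | h10
        · exact hrp ((Nat.prime_dvd_prime_iff_eq hr hpp).1 h10)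
        · have h11 := (Nat.prime_dvd_prime_iff_eq hr Nat.prime_two).1 h10
          rw [h11] at hro
          exact absurd hro (by decide)
    obtain ⟨h1, h2⟩ := torus_case hF ht h
    refine ⟨h1, ?_⟩
    have hc := card_sl2 (F := F)
    have hidx := R.card_mul_index
    rw [hc] at hidx
    have hq : 1 < Nat.card F := Finite.one_lt_card
    -- `q` is odd and at least 5
    have hq5 : 5 ≤ Nat.card F := by
      have hp2 : p ≠ 2 := by
        rintro rfl
        exact hF (by exact_mod_cast CharP.cast_eq_zero F 2)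
      have hdvd : r ∣ Nat.card F * (Nat.card F ^ 2 - 1) := by
        rw [← hc, ← hord]
        exact orderOf_dvd_natCard a
      have := Fintype.ofFinite F
      obtain ⟨n, -, hn⟩ := FiniteField.card F p
      rw [← Nat.card_eq_fintype_card] at hn
      by_contra hlt
      push Not at hlt
      have hpF : p ≤ Nat.card F := by
        rw [hn]
        exact Nat.le_self_pow n.pos.ne' p
      have hp3 : p = 3 := by
        have h5 := hpp.two_le
        have h6 : p < 5 := by omega
        have h7 : p ≠ 4 := by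
          rintro rfl
          exact absurd hpp (by norm_num)
        omega
      subst hp3
      have h3 : Nat.card F = 3 := by
        have h4 : (n : ℕ) = 1 := by
          by_contra hne
          have h5 : 2 ≤ (n : ℕ) := by have := n.pos; omega
          have h6 : 3 ^ 2 ≤ 3 ^ (n : ℕ) := Nat.pow_le_pow_right (by norm_num) h5
          omega
        rw [hn, h4, pow_one]
      rw [h3] at hdvd
      norm_num at hdvd
      have h4 : r ∣ 3 * 2 ^ 3 := hdvd
      rcases (hr.dvd_mul).1 h4 with h5 | h5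
      · exact hrp ((Nat.prime_dvd_prime_iff_eq hr Nat.prime_three).1 h5)
      · have h6 := (Nat.prime_dvd_prime_iff_eq hr Nat.prime_two).1 (hr.dvd_of_dvd_pow h5)
        rw [h6] at hro
        exact absurd hro (by decide)
    generalize Nat.card F = q at *
    by_contra hlt
    push Not at hlt
    have h3 : R.index ≤ q := by omega
    have h4 : Nat.card R * R.index ≤ 4 * q * q := Nat.mul_le_mul h2 h3
    rw [hidx] at h4
    have h5 : q * (q ^ 2 - 1) ≤ q * (4 * q) := by
      calc _ ≤ 4 * q * q := h4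
        _ = _ := by ring
    have h6 : q ^ 2 - 1 ≤ 4 * q := Nat.le_of_mul_le_mul_left h5 (by omega)
    have h7 : 5 * q ≤ q ^ 2 := by nlinarith
    omega

/-- **(K1).** A subgroup `R` of `PSL₂(q)`, `q` odd, which normalises a nontrivial subgroup `N ≤ R` of odd order is
solvable and has index at least `q + 1`. -/
theorem kOne' (hF : (2 : F) ≠ 0) {R N : Subgroup PP} (hN : N ≤ R) (hn : ∀ g ∈ R, ∀ x ∈ N, g * x * g⁻¹ ∈ N)
    (hne : N ≠ ⊥) (hodd : Odd (Nat.card N)) : Group.IsSolvable R ∧ Nat.card F + 1 ≤ R.index := by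
  classical
  obtain ⟨p, hchar⟩ := CharP.exists F
  have hpp : p.Prime := by
    have := Fintype.ofFinite F
    exact CharP.char_is_prime F p
  have : Fact p.Prime := ⟨hpp⟩
  obtain ⟨r, M, hr, hro, hMN, hM, hexp, hcomm, hnM⟩ := exists_elem hn hne hodd
  obtain ⟨x, hx, hx1⟩ : ∃ x ∈ M, x ≠ 1 := by
    by_contra hcon
    push Not at hcon
    exact hM ((Subgroup.eq_bot_iff_forall M).2 hcon)
  have h11 : (1 : SS) ≠ -1 := by
    intro h
    have h1 : (1 : SS) 0 0 = (-1 : SS) 0 0 := by rw [← h]
    rw [sl_neg_apply, sl_one_apply] at h1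
    simp only [if_true] at h1
    apply hF
    linear_combination h1
  -- lift of order `r`
  have hlift : ∃ a : SS, QuotientGroup.mk' (Subgroup.center SS) a = x ∧ a ^ r = 1 := by
    obtain ⟨a0, ha0⟩ := QuotientGroup.mk'_surjective (Subgroup.center SS) x
    have h1 : a0 ^ r ∈ Subgroup.center SS := by
      rw [← QuotientGroup.eq_one_iff (N := Subgroup.center SS)]
      have h2 : QuotientGroup.mk' (Subgroup.center SS) (a0 ^ r) = 1 := by
        rw [map_pow, ha0]
        exact hexp x hx
      exact h2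
    rcases mem_center_two h1 with h2 | h2
    · exact ⟨a0, ha0, h2⟩
    · refine ⟨-a0, ?_, ?_⟩
      · rw [← ha0]
        have h3 : (-a0 : SS) = -1 * a0 := by rw [neg_mul, one_mul]
        rw [h3, map_mul]
        have h4 : QuotientGroup.mk' (Subgroup.center SS) (-1 : SS) = 1 :=
          (QuotientGroup.eq_one_iff (N := Subgroup.center SS) (-1 : SS)).2 neg_one_mem_center
        rw [h4, one_mul]
      · rw [hro.neg_pow, h2, neg_neg]
  obtain ⟨a, hax, har⟩ := hlift
  have ha1 : a ≠ 1 := by
    rintro rfl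
    exact hx1 (by rw [← hax, map_one])
  have key : ∀ g ∈ R.comap (QuotientGroup.mk' (Subgroup.center SS)), Commute (g * a * g⁻¹) a := by
    intro g hg
    have hg' : QuotientGroup.mk' (Subgroup.center SS) g ∈ R := hg
    have h1 := hnM _ hg' x hx
    have h2 := hcomm _ h1 x hx
    obtain ⟨b, hb⟩ : ∃ b : SS, b = g * a * g⁻¹ := ⟨_, rfl⟩
    have hbr : b ^ r = 1 := by
      have h3 : b = MulAut.conj g a := by rw [hb, MulAut.conj_apply]
      rw [h3, ← map_pow, har, map_one]
    have hbx : QuotientGroup.mk' (Subgroup.center SS) b =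
        QuotientGroup.mk' (Subgroup.center SS) g * x * (QuotientGroup.mk' (Subgroup.center SS) g)⁻¹ := by
      rw [hb, map_mul, map_mul, map_inv, hax]
    rw [← hbx, ← hax, ← map_mul, ← map_mul] at h2
    have h3 : (b * a)⁻¹ * (a * b) ∈ Subgroup.center SS := by
      rw [← QuotientGroup.eq (s := Subgroup.center SS)]
      exact h2
    rw [← hb]
    rcases mem_center_two h3 with h4 | h4
    · exact (inv_mul_eq_one.1 h4)
    · exfalso
      have h5 : a * b = -(b * a) := by
        have h6 : a * b = b * a * ((b * a)⁻¹ * (a * b)) := by group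
        rw [h6, h4, mul_neg, mul_one]
      have h6 : a * b * a⁻¹ = -b := by
        rw [h5, neg_mul, mul_inv_cancel_right]
      have h7 : (-b) ^ r = 1 := by
        have h8 : -b = MulAut.conj a b := by rw [MulAut.conj_apply, h6]
        rw [h8, ← map_pow, hbr, map_one]
      rw [hro.neg_pow, hbr] at h7
      exact h11 h7.symm
  obtain ⟨h1, h2⟩ := kOne_sl (p := p) hF hr hro ha1 har key
  have hsur := QuotientGroup.mk'_surjective (Subgroup.center SS)
  constructor
  · have h3 : (R.comap (QuotientGroup.mk' (Subgroup.center SS))).map (QuotientGroup.mk' (Subgroup.center SS)) = R :=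
      Subgroup.map_comap_eq_self_of_surjective hsur R
    let f : R.comap (QuotientGroup.mk' (Subgroup.center SS)) →* R :=
      ((QuotientGroup.mk' (Subgroup.center SS)).comp (Subgroup.subtype _)).codRestrict R fun g => g.2
    have hf : Function.Surjective f := by
      rintro ⟨y, hy⟩
      obtain ⟨s, rfl⟩ := hsur y
      exact ⟨⟨s, hy⟩, rfl⟩
    exact Group.isSolvable_of_surjective hf
  · rwa [Subgroup.index_comap_of_surjective _ hsur] at h2

end PSL

/-- **(K1)**, without decidability. -/
theorem kOne {F : Type*} [Field F] [Finite F] (hF : (2 : F) ≠ 0)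
    {R N : Subgroup (Matrix.ProjectiveSpecialLinearGroup (Fin 2) F)} (hN : N ≤ R)
    (hn : ∀ g ∈ R, ∀ x ∈ N, g * x * g⁻¹ ∈ N) (hne : N ≠ ⊥) (hodd : Odd (Nat.card N)) :
    Group.IsSolvable R ∧ Nat.card F + 1 ≤ R.index := by
  classical
  exact kOne' hF hN hn hne hodd

end Cfsg.Agent.H94.IF
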