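import Cfsg.Agent.H94.IF.KOneB

/-!
# (K2), (K3) for S5719: subgroups of direct products with odd intersections

`OddIdx K b`: a subgroup of `K` normalising a nontrivial subgroup of odd order in it has index at least `b`.
-/

set_option autoImplicit false
set_option linter.unusedSectionVars false

namespace Cfsg.Agent.H94.IF

/-- a subgroup with a nontrivial normal subgroup of odd order has index at least `b` -/
def OddIdx (K : Type*) [Group K] (b : ℕ) : Prop :=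
  ∀ R N : Subgroup K, N ≤ R → (∀ g ∈ R, ∀ x ∈ N, g * x * g⁻¹ ∈ N) → N ≠ ⊥ → Odd (Nat.card N) → b ≤ R.index

section abs

variable {G G₁ G₂ G₃ : Type*} [Group G] [Group G₁] [Group G₂] [Group G₃] [Finite G] [Finite G₁] [Finite G₂] [Finite G₃]

/-- index of a subgroup of a product -/
theorem index_prod (Y : Subgroup (G₁ × G₂)) :
    Y.index = (Y.comap (MonoidHom.inl G₁ G₂)).index * (Y.map (MonoidHom.snd G₁ G₂)).index := by
  classical
  have h1 : Nat.card Y = Nat.card (Y.comap (MonoidHom.inl G₁ G₂)) * Nat.card (Y.map (MonoidHom.snd G₁ G₂)) := by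
    let f : Y →* G₂ := (MonoidHom.snd G₁ G₂).comp Y.subtype
    have hr : f.range = Y.map (MonoidHom.snd G₁ G₂) := by
      rw [MonoidHom.range_comp, Subgroup.range_subtype]
    have hk : Nat.card f.ker = Nat.card (Y.comap (MonoidHom.inl G₁ G₂)) := by
      refine Nat.card_congr ⟨fun y => ⟨y.1.1.1, ?_⟩, fun x => ⟨⟨(x.1, 1), x.2⟩, ?_⟩, ?_, ?_⟩
      · have h2 : y.1.1.2 = 1 := (MonoidHom.mem_ker).1 y.2
        have h3 : ((y.1.1.1, 1) : G₁ × G₂) ∈ Y := by
          rw [← h2]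
          exact y.1.2
        exact h3
      · exact (MonoidHom.mem_ker).2 rfl
      · intro y
        have h2 : y.1.1.2 = 1 := (MonoidHom.mem_ker).1 y.2
        apply Subtype.ext
        apply Subtype.ext
        exact Prod.ext rfl h2.symm
      · intro x
        rfl
    rw [← hk, ← hr, Subgroup.card_eq_card_quotient_mul_card_subgroup f.ker, mul_comm]
    congr 1
    exact Nat.card_congr (QuotientGroup.quotientKerEquivRange f).toEquiv
  have h2 := Y.card_mul_index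
  have h3 := (Y.comap (MonoidHom.inl G₁ G₂)).card_mul_index
  have h4 := (Y.map (MonoidHom.snd G₁ G₂)).card_mul_index
  rw [Nat.card_prod, ← h3, ← h4, h1] at h2
  have h5 : 0 < Nat.card (Y.comap (MonoidHom.inl G₁ G₂)) * Nat.card (Y.map (MonoidHom.snd G₁ G₂)) :=
    Nat.mul_pos Nat.card_pos Nat.card_pos
  apply Nat.eq_of_mul_eq_mul_left h5
  rw [h2]
  ring

theorem index_prod' (Y : Subgroup (G₁ × G₂)) :
    Y.index = (Y.comap (MonoidHom.inr G₁ G₂)).index * (Y.map (MonoidHom.fst G₁ G₂)).index := by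
  classical
  have h1 : Nat.card Y = Nat.card (Y.comap (MonoidHom.inr G₁ G₂)) * Nat.card (Y.map (MonoidHom.fst G₁ G₂)) := by
    let f : Y →* G₁ := (MonoidHom.fst G₁ G₂).comp Y.subtype
    have hr : f.range = Y.map (MonoidHom.fst G₁ G₂) := by
      rw [MonoidHom.range_comp, Subgroup.range_subtype]
    have hk : Nat.card f.ker = Nat.card (Y.comap (MonoidHom.inr G₁ G₂)) := by
      refine Nat.card_congr ⟨fun y => ⟨y.1.1.2, ?_⟩, fun x => ⟨⟨(1, x.1), x.2⟩, ?_⟩, ?_, ?_⟩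
      · have h2 : y.1.1.1 = 1 := (MonoidHom.mem_ker).1 y.2
        have h3 : ((1, y.1.1.2) : G₁ × G₂) ∈ Y := by
          rw [← h2]
          exact y.1.2
        exact h3
      · exact (MonoidHom.mem_ker).2 rfl
      · intro y
        have h2 : y.1.1.1 = 1 := (MonoidHom.mem_ker).1 y.2
        apply Subtype.ext
        apply Subtype.ext
        exact Prod.ext h2.symm rfl
      · intro x
        rfl
    rw [← hk, ← hr, Subgroup.card_eq_card_quotient_mul_card_subgroup f.ker, mul_comm]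
    congr 1
    exact Nat.card_congr (QuotientGroup.quotientKerEquivRange f).toEquiv
  have h2 := Y.card_mul_index
  have h3 := (Y.comap (MonoidHom.inr G₁ G₂)).card_mul_index
  have h4 := (Y.map (MonoidHom.fst G₁ G₂)).card_mul_index
  rw [Nat.card_prod, ← h3, ← h4, h1] at h2
  have h5 : 0 < Nat.card (Y.comap (MonoidHom.inr G₁ G₂)) * Nat.card (Y.map (MonoidHom.fst G₁ G₂)) :=
    Nat.mul_pos Nat.card_pos Nat.card_pos
  apply Nat.eq_of_mul_eq_mul_left h5
  rw [h2]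
  ring

theorem conj_comap_inl {Y : Subgroup (G₁ × G₂)} {y : G₁ × G₂} (hy : y ∈ Y) {x : G₁}
    (hx : x ∈ Y.comap (MonoidHom.inl G₁ G₂)) : y.1 * x * y.1⁻¹ ∈ Y.comap (MonoidHom.inl G₁ G₂) := by
  have h1 : y * (x, 1) * y⁻¹ ∈ Y := Y.mul_mem (Y.mul_mem hy hx) (Y.inv_mem hy)
  have h2 : y * (x, 1) * y⁻¹ = (y.1 * x * y.1⁻¹, 1) := by
    refine Prod.ext rfl ?_
    show y.2 * 1 * y.2⁻¹ = 1
    group
  rw [h2] at h1
  exact h1

theorem conj_comap_inr {Y : Subgroup (G₁ × G₂)} {y : G₁ × G₂} (hy : y ∈ Y) {x : G₂}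
    (hx : x ∈ Y.comap (MonoidHom.inr G₁ G₂)) : y.2 * x * y.2⁻¹ ∈ Y.comap (MonoidHom.inr G₁ G₂) := by
  have h1 : y * (1, x) * y⁻¹ ∈ Y := Y.mul_mem (Y.mul_mem hy hx) (Y.inv_mem hy)
  have h2 : y * (1, x) * y⁻¹ = (1, y.2 * x * y.2⁻¹) := by
    refine Prod.ext ?_ rfl
    show y.1 * 1 * y.1⁻¹ = 1
    group
  rw [h2] at h1
  exact h1

/-- the first intersection is odd: small index or trivial -/
theorem inl_bot {b : ℕ} (hK : OddIdx G₁ b) {Y : Subgroup (G₁ × G₂)}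
    (h1 : Odd (Nat.card (Y.comap (MonoidHom.inl G₁ G₂)))) (hlt : (Y.map (MonoidHom.fst G₁ G₂)).index < b) :
    Y.comap (MonoidHom.inl G₁ G₂) = ⊥ := by
  by_contra hne
  have h2 := hK (Y.map (MonoidHom.fst G₁ G₂)) (Y.comap (MonoidHom.inl G₁ G₂)) ?_ ?_ hne h1
  · omega
  · intro x hx
    exact ⟨(x, 1), hx, rfl⟩
  · rintro _ ⟨y, hy, rfl⟩ x hx
    exact conj_comap_inl hy hx

theorem inr_bot {b : ℕ} (hK : OddIdx G₂ b) {Y : Subgroup (G₁ × G₂)}
    (h1 : Odd (Nat.card (Y.comap (MonoidHom.inr G₁ G₂)))) (hlt : (Y.map (MonoidHom.snd G₁ G₂)).index < b) :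
    Y.comap (MonoidHom.inr G₁ G₂) = ⊥ := by
  by_contra hne
  have h2 := hK (Y.map (MonoidHom.snd G₁ G₂)) (Y.comap (MonoidHom.inr G₁ G₂)) ?_ ?_ hne h1
  · omega
  · intro x hx
    exact ⟨(1, x), hx, rfl⟩
  · rintro _ ⟨y, hy, rfl⟩ x hx
    exact conj_comap_inr hy hx

/-- a subgroup of odd order has index at least `b` -/
theorem OddIdx.odd {b : ℕ} (hK : OddIdx G b) (hb : b ≤ Nat.card G) {N : Subgroup G} (h : Odd (Nat.card N)) :
    b ≤ N.index := by
  by_cases hN : N = ⊥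
  · rw [hN, Subgroup.index_bot]
    exact hb
  · exact hK N N le_rfl (fun g hg x hx => N.mul_mem (N.mul_mem hg hx) (N.inv_mem hg)) hN h

/-- **(K2)** -/
theorem kTwo {b₁ b₂ : ℕ} (h₁ : OddIdx G₁ b₁) (h₂ : OddIdx G₂ b₂) (hb₁ : b₁ ≤ Nat.card G₁) (hb₂ : b₂ ≤ Nat.card G₂)
    {Y : Subgroup (G₁ × G₂)} (o₁ : Odd (Nat.card (Y.comap (MonoidHom.inl G₁ G₂))))
    (o₂ : Odd (Nat.card (Y.comap (MonoidHom.inr G₁ G₂)))) :
    b₁ * b₂ ≤ Y.index ∨ (Nat.card G₁ ≤ Y.index ∧ Nat.card G₂ ≤ Y.index) := by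
  have e1 := index_prod Y
  have e2 := index_prod' Y
  have i1 := h₁.odd hb₁ o₁
  have i2 := h₂.odd hb₂ o₂
  by_cases c2 : (Y.map (MonoidHom.snd G₁ G₂)).index < b₂
  · by_cases c1 : (Y.map (MonoidHom.fst G₁ G₂)).index < b₁
    · right
      have t1 := inl_bot h₁ o₁ c1
      have t2 := inr_bot h₂ o₂ c2
      rw [t1, Subgroup.index_bot] at e1
      rw [t2, Subgroup.index_bot] at e2
      have p1 : 0 < (Y.map (MonoidHom.snd G₁ G₂)).index := Nat.pos_of_ne_zero Subgroup.index_ne_zero_of_finite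
      have p2 : 0 < (Y.map (MonoidHom.fst G₁ G₂)).index := Nat.pos_of_ne_zero Subgroup.index_ne_zero_of_finite
      exact ⟨by rw [e1]; exact Nat.le_mul_of_pos_right _ p1, by rw [e2]; exact Nat.le_mul_of_pos_right _ p2⟩
    · left
      push Not at c1
      rw [e2, mul_comm b₁ b₂]
      exact Nat.mul_le_mul i2 c1
  · left
    push Not at c2
    rw [e1]
    exact Nat.mul_le_mul i1 c2

theorem odd_card_of_forall {A : Subgroup G} (h : ∀ x ∈ A, Odd (orderOf x)) : Odd (Nat.card A) := by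
  by_contra hev
  rw [Nat.not_odd_iff_even, even_iff_two_dvd] at hev
  have : Fact (Nat.Prime 2) := ⟨Nat.prime_two⟩
  obtain ⟨x, hx⟩ := exists_prime_orderOf_dvd_card' (G := A) 2 hev
  have h1 := h x x.2
  rw [Subgroup.orderOf_coe, hx] at h1
  exact absurd h1 (by decide)

theorem odd_orderOf_of_dvd {x : G} {y : G₁} (h : ∀ n : ℕ, x ^ n = 1 → y ^ n = 1) (hx : Odd (orderOf x)) :
    Odd (orderOf y) :=
  hx.of_dvd_nat (orderOf_dvd_of_pow_eq_one (h _ (pow_orderOf_eq_one x)))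

/-- **(K3)**: all intersections with products of two factors are odd. -/
theorem kThree {b : ℕ} (h₁ : OddIdx G₁ b) (h₂ : OddIdx G₂ b) (h₃ : OddIdx G₃ b) (hb₁ : b ≤ Nat.card G₁)
    (hb₂ : b ≤ Nat.card G₂) (hb₃ : b ≤ Nat.card G₃) {Y : Subgroup (G₁ × G₂ × G₃)}
    (o₁₂ : ∀ y ∈ Y, y.2.2 = 1 → Odd (orderOf y)) (o₁₃ : ∀ y ∈ Y, y.2.1 = 1 → Odd (orderOf y))
    (o₂₃ : ∀ y ∈ Y, y.1 = 1 → Odd (orderOf y)) :
    b ^ 3 ≤ Y.index ∨ Nat.card G₁ * Nat.card G₂ ≤ Y.index := by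
  set Z : Subgroup (G₂ × G₃) := Y.map (MonoidHom.snd G₁ (G₂ × G₃)) with hZ
  set W : Subgroup (G₂ × G₃) := Y.comap (MonoidHom.inr G₁ (G₂ × G₃)) with hW
  have e := index_prod Y
  have e' := index_prod' Y
  rw [← hZ] at e
  rw [← hW] at e'
  have f := index_prod Z
  have f' := index_prod' Z
  have g := index_prod W
  -- odd subgroups
  have d1 : Odd (Nat.card (Y.comap (MonoidHom.inl G₁ (G₂ × G₃)))) := by
    refine odd_card_of_forall fun x hx => ?_
    refine odd_orderOf_of_dvd (x := ((x, 1) : G₁ × G₂ × G₃)) (fun n hn => ?_) (o₁₂ _ hx rfl)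
    exact congrArg Prod.fst hn
  have d2 : Odd (Nat.card (Z.comap (MonoidHom.inl G₂ G₃))) := by
    refine odd_card_of_forall fun x hx => ?_
    obtain ⟨y, hy, hyx⟩ := hx
    have h1 : y.2.1 = x := congrArg Prod.fst hyx
    have h2 : y.2.2 = 1 := congrArg Prod.snd hyx
    refine odd_orderOf_of_dvd (x := y) (fun n hn => ?_) (o₁₂ y hy h2)
    rw [← h1]
    exact congrArg (fun t => t.2.1) hn
  have d3 : Odd (Nat.card (Z.comap (MonoidHom.inr G₂ G₃))) := by
    refine odd_card_of_forall fun x hx => ?_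
    obtain ⟨y, hy, hyx⟩ := hx
    have h1 : y.2.1 = 1 := congrArg Prod.fst hyx
    have h2 : y.2.2 = x := congrArg Prod.snd hyx
    refine odd_orderOf_of_dvd (x := y) (fun n hn => ?_) (o₁₃ y hy h1)
    rw [← h2]
    exact congrArg (fun t => t.2.2) hn
  have d4 : Odd (Nat.card (W.comap (MonoidHom.inl G₂ G₃))) := by
    refine odd_card_of_forall fun x hx => ?_
    refine odd_orderOf_of_dvd (x := ((1, x, 1) : G₁ × G₂ × G₃)) (fun n hn => ?_) (o₂₃ _ hx rfl)
    exact congrArg (fun t => t.2.1) hn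
  have d5 : Odd (Nat.card (W.map (MonoidHom.snd G₂ G₃))) := by
    refine odd_card_of_forall fun x hx => ?_
    obtain ⟨y, hy, hyx⟩ := hx
    refine odd_orderOf_of_dvd (x := ((1, y) : G₁ × G₂ × G₃)) (fun n hn => ?_) (o₂₃ _ hy rfl)
    rw [← hyx]
    exact congrArg (fun t => t.2.2) hn
  have i1 := h₁.odd hb₁ d1
  have i2 := h₂.odd hb₂ d2
  have i3 := h₃.odd hb₃ d3
  have i4 := h₂.odd hb₂ d4
  have i5 := h₃.odd hb₃ d5
  by_cases c3 : b ≤ (Z.map (MonoidHom.snd G₂ G₃)).index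
  · left
    rw [e, f]
    calc b ^ 3 = b * (b * b) := by ring
      _ ≤ _ := Nat.mul_le_mul i1 (Nat.mul_le_mul i2 c3)
  by_cases c2 : b ≤ (Z.map (MonoidHom.fst G₂ G₃)).index
  · left
    rw [e, f']
    calc b ^ 3 = b * (b * b) := by ring
      _ ≤ _ := Nat.mul_le_mul i1 (Nat.mul_le_mul i3 c2)
  by_cases c1 : b ≤ (Y.map (MonoidHom.fst G₁ (G₂ × G₃))).index
  · left
    rw [e', g]
    calc b ^ 3 = b * b * b := by ring
      _ ≤ _ := Nat.mul_le_mul (Nat.mul_le_mul i4 i5) c1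
  push Not at c1 c2 c3
  right
  have t1 := inl_bot h₁ d1 c1
  have t2 := inl_bot h₂ d2 c2
  rw [t1, Subgroup.index_bot] at e
  rw [t2, Subgroup.index_bot] at f
  rw [e, f]
  have p : 0 < (Z.map (MonoidHom.snd G₂ G₃)).index := Nat.pos_of_ne_zero Subgroup.index_ne_zero_of_finite
  exact Nat.mul_le_mul_left _ (Nat.le_mul_of_pos_right _ p)

end abs

section inst

variable {F : Type*} [Field F] [Finite F]

local notation "PP" => Matrix.ProjectiveSpecialLinearGroup (Fin 2) F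

theorem oddIdx_psl (hF : (2 : F) ≠ 0) : OddIdx PP (Nat.card F + 1) := fun _ _ h1 h2 h3 h4 =>
  (kOne hF h1 h2 h3 h4).2

end inst

end Cfsg.Agent.H94.IF
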