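import Cfsg.Agent.H254.IF.Rows
import Cfsg.Agent.H556.IF.Cell
import Cfsg.Agent.H893.IF.EightM3
import Cfsg.Agent.H276.IF.KillE

/-!
# S5719: the cells `plus_mid`, `minus_mid` of the orthogonal groups, `q` odd, from their boxes (helper94)
-/

set_option autoImplicit false
set_option linter.unusedSectionVars false
set_option linter.unusedVariables false

namespace Cfsg.Agent.H94.IF

open QuadraticMap Cfsg Cfsg.Agent.LieClassical.OrthCore Cfsg.Agent.LieClassical.OrthTrans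
  Cfsg.Agent.LieClassical.OrthFinite Cfsg.Agent.LieClassical.OrthForms Cfsg.Agent.H209.Fxy
  Cfsg.Agent.H75.OrthIdx Cfsg.Agent.H112.Row2.OrthExt
open Module (finrank)
open Cfsg.Agent.H325.IF (Vm Vp)

/-- CLAIM 0 for the model -/
def ClaimZ {ι : Type} [Fintype ι] [DecidableEq ι] {F : Type} [Field F] (Q : QuadraticForm F (ι → F)) : Prop :=
  ∀ (hG : Good Q) (A : Subgroup (POmega F ⇑Q)) (Γ : Subgroup (MulAut (POmega F ⇑Q))), IF A Γ →
    ∀ t ∈ A.comap (omHom hG), t * t = 1 → (finrank F (Vm t) = 2 ∨ finrank F (Vm t) + 2 = finrank F (ι → F)) → False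

/-- the minimal index theorem -/
def MinIdx : Prop := ∀ (F V : Type) [Field F] [Finite F] [AddCommGroup V] [Module F V] [FiniteDimensional F V],
  (2 : F) ≠ 0 → ∀ (Q : QuadraticForm F V), Nondeg Q → 7 ≤ finrank F V → ∀ H : Subgroup ↥(E Q), H ≠ ⊤ →
    Nat.card F ^ (finrank F V - 2) ≤ H.index

theorem rowThm_of (h : MinIdx) : Cfsg.Agent.H254.IF.RowThm := by
  intro F V _ _ _ _ _ Q h2 hQ h11 T _ _ _ π hπ hker hna A Γ hIF hev
  refine Cfsg.Agent.H276.IF.killE_min h2 hQ h11 hna hIF π hπ hker hev ?_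
  intro D hD h7 H hH
  exact h F D h2 (QU Q D) (Cfsg.Agent.H276.IF.nondeg_QU hD) h7 H hH

theorem ten_of {ι : Type} [Fintype ι] [DecidableEq ι] {F : Type} [Field F] [Fintype F]
    (ho : Odd (Fintype.card F)) (Q : QuadraticForm F (ι → F)) (hQ : Nondeg Q) (h10 : Fintype.card ι = 10)
    (hs : IsSimpleGroup (POmega F ⇑Q)) (hC : ClaimZ Q) : KillE (POmega F ⇑Q) := by
  have hfr : finrank F (ι → F) = 10 := by rw [Module.finrank_pi F, h10]
  have hG : Good Q := good_of_finite hQ (by rw [hfr]; omega)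
  refine Cfsg.Agent.H556.IF.ten_killE (Cfsg.Agent.H254.IF.two_ne_zero_of_odd ho) hG hfr hs ?_
  intro A Γ hIF t ht htt hr
  refine hC hG A Γ hIF t ht htt ?_
  rw [hfr]
  omega

theorem plus_mid_of (hMI : MinIdx)
    (hC : ∀ (F : Type) [Field F] [Fintype F], Odd (Fintype.card F) → ClaimZ (plusForm 5 F))
    (h4 : ∀ (F : Type) [Field F] [Fintype F], Odd (Fintype.card F) →
      IsSimpleGroup (POmega F (quadFormPlus 4 F)) → KillE (POmega F (quadFormPlus 4 F)))
    (F : Type) [Field F] [Fintype F] (m : ℕ) (ho : Odd (Fintype.card F)) (h4m : 4 ≤ m) (hm7 : m ≤ 7)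
    (hs : IsSimpleGroup (POmega F (quadFormPlus m F))) : KillE (POmega F (quadFormPlus m F)) := by
  rcases Nat.lt_or_ge m 6 with h | h
  · have h45 : m = 4 ∨ m = 5 := by omega
    rcases h45 with rfl | rfl
    · exact h4 F ho hs
    · rw [← coe_plusForm] at hs ⊢
      exact ten_of ho _ (nondeg_plusForm 5 F) (by simp) hs (hC F ho)
  · exact Cfsg.Agent.H254.IF.plus_of (rowThm_of hMI) F m ho h hs

theorem minus_mid_of (hMI : MinIdx)
    (hC : ∀ (F : Type) [Field F] [Fintype F] (a b : F), Odd (Fintype.card F) →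
      (∀ z₁ z₂ : F, z₁ ^ 2 + a * z₁ * z₂ + b * z₂ ^ 2 = 0 → z₁ = 0 ∧ z₂ = 0) → ClaimZ (minusForm 4 F a b))
    (h4 : ∀ (F : Type) [Field F] [Fintype F] (a b : F), Odd (Fintype.card F) →
      (∀ z₁ z₂ : F, z₁ ^ 2 + a * z₁ * z₂ + b * z₂ ^ 2 = 0 → z₁ = 0 ∧ z₂ = 0) →
      IsSimpleGroup (POmega F (quadFormMinus 3 F a b)) → KillE (POmega F (quadFormMinus 3 F a b)))
    (F : Type) [Field F] [Fintype F] (m : ℕ) (a b : F) (ho : Odd (Fintype.card F)) (h4m : 4 ≤ m) (hm7 : m ≤ 7)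
    (hz : ∀ z₁ z₂ : F, z₁ ^ 2 + a * z₁ * z₂ + b * z₂ ^ 2 = 0 → z₁ = 0 ∧ z₂ = 0)
    (hs : IsSimpleGroup (POmega F (quadFormMinus (m - 1) F a b))) :
    KillE (POmega F (quadFormMinus (m - 1) F a b)) := by
  rcases Nat.lt_or_ge m 6 with h | h
  · have h45 : m = 4 ∨ m = 5 := by omega
    rcases h45 with rfl | rfl
    · exact h4 F a b ho hz hs
    · change IsSimpleGroup (POmega F (quadFormMinus 4 F a b)) at hs
      change KillE (POmega F (quadFormMinus 4 F a b))
      rw [← coe_minusForm] at hs ⊢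
      exact ten_of ho _ (nondeg_minusForm 4 F a b hz) (by simp) hs (hC F a b ho hz)
  · exact Cfsg.Agent.H254.IF.minus_of (rowThm_of hMI) F m a b ho h hz hs

end Cfsg.Agent.H94.IF
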